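import Cfsg.Agent.SuzC.Cert
import Cfsg.Agent.CGT.Out

set_option autoImplicit false
set_option maxRecDepth 100000
set_option linter.all false

namespace Cfsg.Agent.SuzC
open Cfsg.Agent.CGT

def g_Ws : List (List ℕ) := [[10, 2, 4, 6, 4, 2, 4, 10, 12, 6, 8, 2, 4, 10, 12, 6, 8, 2, 4, 10, 12, 6, 8, 2, 4, 10, 12, 6, 8, 2, 4, 10, 12, 6, 8, 4, 6, 4, 2, 10], [6, 8, 4, 6, 4, 2, 10, 4, 6, 8, 4, 6, 2, 4, 2, 0, 2, 12, 0, 4, 6, 4, 2, 10, 8, 6, 4, 6, 8, 0, 2, 4, 6, 4, 2, 4, 6, 8, 4, 6, 4], [4, 2, 10, 4, 6, 8, 6, 2, 4, 6, 2, 4, 0, 2, 12, 2, 4, 6, 8, 2, 4, 6, 0, 2, 4, 6, 4, 2, 10, 8, 6, 4, 0, 2, 0, 2, 4, 6, 8, 4], [4, 2, 6, 0, 4, 10, 2, 4, 6, 8, 4, 6, 4, 2, 10, 4, 6, 8, 2, 4, 6, 4, 0, 2, 6, 4, 6, 4, 6, 8,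 6, 4, 6, 2, 0, 4, 2, 0, 6, 4, 2, 4, 6, 4, 0, 2, 0, 2], [0, 10, 12, 2, 0, 10, 2, 0, 2, 12, 6, 4, 6, 8, 6, 10, 2, 4, 6, 4, 2, 10, 2, 4, 6, 4, 0, 2, 0, 4, 6, 4, 2, 4, 6, 0, 2, 4, 0, 2, 6, 8, 6], [6, 0, 6, 4, 2, 6, 8, 0, 10, 2, 4, 6, 4, 2, 10, 2, 6, 4, 0, 2, 0, 2, 8, 6, 8, 2, 0, 4, 2, 0, 6, 4, 2, 4, 6, 4, 0, 2, 0, 2, 8, 6, 4, 6, 4], [8, 2, 0, 4, 2, 10, 4, 6, 0, 2, 0, 2, 4, 6, 8, 2, 4, 6, 4, 2, 6, 8, 4, 6, 4, 6, 8, 6, 8, 2, 0, 4, 2, 0, 6, 4, 2, 4, 6, 4, 0, 2, 0, 2, 8, 2, 0, 4, 2, 0, 6, 4, 2, 4, 6, 4, 0, 2, 0, 2, 6, 4, 6, 2, 0, 4, 2, 0, 6, 4, 2, 4, 6, 4, 0, 2, 0, 2, 6, 4, 6, 8, 2, 0, 2, 0, 4, 6, 4, 2, 4, 6, 0, 2, 4, 0, 2, 8], [2, 10, 6, 8, 6, 10, 0, 2, 4, 2, 0, 4, 6, 4, 2, 4, 6, 0, 2, 4, 0, 2, 4,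 6, 8, 6], [6, 8, 6, 2, 0, 2, 4, 2, 0, 4, 6, 4, 2, 4, 6, 0, 2, 4, 0, 2, 4, 6, 8, 6], [0, 6, 8, 0, 6, 0, 2, 4, 6, 8, 2, 0, 2, 4, 6, 2, 4, 0, 2, 8, 6, 4, 6, 4, 6, 8, 4], [6, 8, 6, 2, 0, 2, 4, 2, 0, 4, 6, 4, 2, 4, 6, 0, 2, 4, 0, 2, 4, 6, 8, 6], [6, 4, 6, 4, 6, 2, 4, 6, 8, 0, 2, 4, 6, 4, 2, 6, 8, 2, 0, 2, 0, 4, 6, 4, 2, 4, 6, 0, 2, 4, 0, 2, 8, 6], [8, 6, 4, 6, 8], [4, 2, 0, 2, 0, 4, 6, 4, 2, 4, 6, 0, 2, 4, 0, 2, 6, 8, 6, 2, 0, 4, 2, 0, 6, 4, 2, 4, 6, 4, 0, 2, 0, 2, 4], [4, 6, 2, 0, 4, 2, 0, 6, 4, 2, 4, 6, 4, 0, 2, 0, 2, 8, 6, 2, 0, 4, 2, 0, 6, 4, 2, 4, 6, 4, 0, 2, 0, 2, 4], [8, 6, 4, 6, 8], [6, 4, 2, 0, 2, 0, 4, 6, 4, 2, 4, 6, 0, 2, 4, 0, 2, 8, 6, 8, 2, 0, 4, 2, 0, 6, 4, 2, 4, 6, 4, 0, 2, 0, 2,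 8, 6, 4, 6, 4], [6, 4, 6, 8, 2, 0, 2, 0, 4, 6, 4, 2, 4, 6, 0, 2, 4, 0, 2, 8], [6, 4, 6, 8, 2, 0, 2, 0, 4, 6, 4, 2, 4, 6, 0, 2, 4, 0, 2, 8, 4], [6, 4, 6, 2, 0, 4, 2, 0, 6, 4, 2, 4, 6, 4, 0, 2, 0, 2, 6, 4, 6, 2, 0, 4, 2, 0, 6, 4, 2, 4, 6, 4, 0, 2, 0, 2, 6, 4, 6, 8, 2, 0, 2, 0, 4, 6, 4, 2, 4, 6, 0, 2, 4, 0, 2, 8], [6, 4, 6, 2, 0, 4, 2, 0, 6, 4, 2, 4, 6, 4, 0, 2, 0, 2, 6, 4, 6, 8, 2, 0, 2, 0, 4, 6, 4, 2, 4, 6, 0, 2, 4, 0, 2, 8], [4], [0], [2], [4], [6], [8], [10], [12]]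
theorem g_s0 : slpB 11 m_ts (chainBase [] c_ls) g_Ws [[1, 3, 3, 1, 1, 5, 5, 1, 1, 3], [3, 3, 3, 3, 4, 0, 4, 4, 4, 3], [3, 4, 0, 2, 1, 2, 1, 5], [1, 5, 5, 0, 4, 2, 2, 5, 0, 5, 5, 2, 0], [7, 9, 7, 8, 6, 11, 6, 11], [7, 9, 7, 9, 7, 11, 6, 11], [9, 7, 13, 8, 10, 9, 7, 13, 9], [7, 9, 7, 9, 13, 8, 8, 7, 13, 9, 6, 8], [9, 7, 9, 13, 9, 13, 6, 10, 13, 10, 6, 10], [15, 23, 19, 18, 21, 23, 21, 21, 15], [19, 23, 19, 15, 18, 17, 19, 22, 15, 14, 19], [19, 23, 19, 16, 18, 20, 19, 22, 18], [23, 19, 15, 19, 23, 22, 19, 14, 18, 14, 22], [19, 23, 19, 23, 19, 23, 17, 19, 22, 20, 23, 16, 18], [25, 33, 27, 33, 25, 33, 27, 33], [32, 25, 31, 24, 29, 32, 28, 27], [33, 33, 27, 27, 33, 30, 28, 24, 27, 28], [35, 39,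 38, 35, 35, 36, 39, 37, 37], [41, 41, 40, 41], [32, 26, 32, 35], [22, 14, 22, 18, 14, 18, 14, 32, 32, 24, 32, 24, 39, 40, 42], [42], [32, 26, 33, 38, 40], [26, 33, 33, 35, 42], [12, 8, 12, 8, 12, 8, 12, 8, 18, 14, 18, 22, 18, 22, 14, 26, 32, 32, 26, 38, 34, 40], [3, 0, 5, 1, 4, 2, 8, 12, 6, 8, 12, 8, 12, 8, 6, 8, 6, 18, 14, 18, 22, 35, 42]] 3 29 = true := by decide +kernel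
theorem g_top {G : Type*} [Group G] {φ : G →* Equiv.Perm ℕ} {γ : ℕ → G}
    (C : Cert φ γ 11 l0_ns m_ts [0, 2, 4, 6, 8, 10, 12] c_ls) : gw γ (g_Ws.take 3) = ⊤ := by
  have h0 : SlpTo γ (gw γ (g_Ws.take 3)) g_Ws 3 := fun i hi =>
    ev_mem_gw γ (by interval_cases i <;> decide +kernel)
  rw [eq_top_iff, ← C.gen]
  exact SlpTo.gp_le (SlpTo.step C.M C.base (by decide +kernel) h0 g_s0) (by decide +kernel)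

end Cfsg.Agent.SuzC
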