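import Cfsg.Agent.SuzC.Cert
import Cfsg.Agent.CGT.Out

set_option autoImplicit false
set_option maxRecDepth 100000
set_option linter.all false

namespace Cfsg.Agent.SuzC
open Cfsg.Agent.CGT

def cu_l0 : Level := ⟨0, [[0], [2], [4], [6], [8], [10], [12]], [6, 1, 0, 2, 5, 3, 1, 2, 4, 1, 5, 0, 3, 6, 1, 2, 3, 1, 6, 0, 5, 4, 2, 1, 0, 2, 1, 5], 0x3fffffffffffffffffffffffffffffffffffffffffffffffffffffffffffffffffffffffffffffffffffffffffffffffffffffffffffffffffffffffffffffffffffffffffffffffffffffffffffffffffffffffffffffffffffffffffffffffffffffffffffffffffffffffffffffffffffffffffffffffffffffffffffffffffffffffffffffffffffffffffffffffffffffffffffffffffffffffffffffffffffffffffffffffffffffffffffffffffffffffffffffffffffffffffffffffffffffffffffffffffffffffffffffffffffffffffffffffffffffffffffff, 1782⟩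
def cu_l1 : Level := ⟨995, [[0], [2], [4], [6], [8], [10]], [5, 1, 0, 2, 1, 3, 2, 0, 4, 1, 5, 3, 0, 2, 1, 5, 0, 3, 4, 1, 2, 0, 1], 0x338007f20c00000000007f00000000008000804eeb80200d31802000000000000000000000000006781e72000040000000000000080181fc0d83ce8a80048c000e3fe382258640c000000000000000000000079c81e600100200000000000000703c0fe0611c474e00140c40003f3fc23904d00262800000000000000079803a00600000000000e787fe047474601cc5000cff9d4744250000000001d034530000000247ffe3ae88d25039ffd11100000034694c00001a7ffba44444ff88800001a694800027fd111f10000d240007a2390008000691000000800000000000, 416⟩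
def cu_l2 : Level := ⟨621, [[0], [2], [4], [6], [8]], [0, 1, 2, 3, 4, 1, 0, 3, 2, 1, 0, 2, 3, 4, 2, 1, 3, 2, 0, 1], 0x20000440000000000000010000000000000000000b00600008000000000000000000000000800000000009c000000000000000000000000000000025b00000f00000000800000000600000000000400008000000000dc7002000002000001580000000000000006b2000000bc00000007803580012ec0000003005ba000280d98c3022b0004b0000000000008ee00023b100001819806c004250b806c184443614dc08000000330006c20006606002a3818211a309e08000098019003020028c08213109c800606044053049c97808c242b3a9f82665777f3d6effdffffe, 315⟩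
def cu_l3 : Level := ⟨1344, [[0, 6, 8, 2, 4, 6, 4, 6, 8, 2, 4, 6, 4, 0, 2, 6, 4, 6, 8, 4, 6, 4], [6, 2, 4, 6, 0, 2, 0, 2, 4, 6, 8, 2, 4, 6, 4, 2, 4, 6, 8, 4, 6, 4, 6, 4]], [], 0x40000000000000010000000000000000000200000020000000000000000000000000000002100802000000000000000000080001200802420000000000000200000000000000000000000000000000000000040000000000000000000000000000000000000000080000100000000000000000000000000000002000000000000000000020001000000000100000001200000000000000000000000000000000020000000010000000000000000020000000000000008040000000000000000000000000000000000000000080000000000200000000000000000000, 32⟩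
def cu_l4 : Level := ⟨392, [[0, 4, 6, 8, 4, 6, 2, 4, 2, 0, 2, 6], [8, 4, 0, 2, 0, 2, 4, 6, 8, 2, 4, 6, 0, 2, 4, 0, 2, 4, 6, 4, 6, 8, 6, 4]], [], 0x40000000002000000040000000000000040000000000000000000000000000020000000000002000000000040000000000000400001000000000000000000000000000000208000000000000100000000080000000000010000040000000000008480000000010000000000000000000000000010000000000000000000, 20⟩
def cu_l5 : Level := ⟨834, [[2, 0, 8, 2, 4, 6, 4, 2, 0, 2, 8, 6, 4, 6, 2, 0, 4, 2, 0, 6, 4, 2, 4, 6, 4, 0, 2, 0, 2, 4]], [], 0x40000000000000000000100000000000000000000000000000000000000000000000000000000000000000000000000000000000000000000000000000000000000000000000000000000000000000000000000000000000000000000008000000000000000000000, 3⟩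
def cu_ls : List Level := [cu_l0, cu_l1, cu_l2, cu_l3, cu_l4, cu_l5]
def cu_S : Srch := ⟨11, m_ts, (chainBase [] c_ls), [0, 6, 10, 2, 4, 6, 4, 2, 10, 12, 2, 4, 6, 4, 2, 12, 4, 2, 4, 6, 8, 0, 2, 4, 6, 4, 2, 10, 0, 2, 4, 6, 8, 4, 6, 2, 4, 0, 2, 8, 4, 6, 4, 6, 8], [0, 6, 10, 2, 4, 6, 4, 2, 10, 12, 2, 4, 6, 4, 2, 12, 4, 2, 4, 6, 8, 0, 2, 4, 6, 4, 2, 10, 0, 2, 4, 6, 8, 4, 6, 2, 4, 0, 2, 8, 4, 6, 4, 6, 8], [[8, 12, 6, 4, 0, 2, 12, 6, 2, 4, 6, 4, 2, 10, 0, 2, 4, 6, 8, 2, 4, 6, 2, 4, 0, 2, 8, 4, 6, 4, 6, 4, 6, 8, 2, 0, 4, 2, 0, 6, 4, 2, 4, 6, 4, 0, 2, 0, 2, 8, 6, 4, 6, 4]]⟩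
def cu_lk : List ℕ := [1, 996, 622, 1345, 393]
def cu_tl : List Level := [cu_l1, cu_l2, cu_l3, cu_l4, cu_l5]
def cu_R0 : ℕ := 0x10000000000000000000000000000000000000000000000000000000000000000000000000000000000000000000000000000000000000000000000000000000000000000000000000000000000000000000000000000000000000000000000000000000000000000802000000000000000000000000000000010000000000000000000000000000000000000000000000000000000000000000000000000400080020010000000100000c1822080084000400008520c8007022d40808290144c10818d97685583239319c03996c4cd742fefe473ea4fdfdefdfebffffff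
theorem cu_l0_ok : (ptsOK 11 [] && (wordsIn [0, 2, 4, 6, 8, 10, 12] cu_l0.S && cu_l0.ok 11 l0_ns m_ts [])) = true := by decide +kernel
theorem cu_l1_ok : (ptsOK 11 [0] && (wordsIn [0, 2, 4, 6, 8, 10, 12] cu_l1.S && cu_l1.ok 11 l0_ns m_ts [0])) = true := by decide +kernel
theorem cu_l2_ok : (ptsOK 11 [995, 0] && (wordsIn [0, 2, 4, 6, 8, 10, 12] cu_l2.S && cu_l2.ok 11 l0_ns m_ts [995, 0])) = true := by decide +kernel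
theorem cu_l3_ok : cu_l3.okT 11 m_ts [0, 2, 4, 6, 8, 10, 12] [621, 995, 0] (.cons [0] (.cons [2] (.cons [2] (.cons [0] (.cons [3] .nil .nil) .nil) .nil) (.cons [3] (.cons [3] (.cons [0] (.cons [2] .nil (.cons [3] (.cons [0] .nil .nil) .nil)) .nil) .nil) .nil)) (.cons [2] (.cons [2] (.cons [0] (.cons [3] (.cons [3] .nil .nil) .nil) (.cons [2] (.cons [0] (.cons [2] .nil (.cons [3] .nil .nil)) .nil) .nil)) .nil) (.cons [3] (.cons [3] (.cons [0] (.cons [2] (.cons [2] .nil .nil) (.cons [3] (.cons [0] (.cons [2] .nil (.cons [3] .nil .nil)) .nil) .nil)) (.cons [3] (.cons [0] .nil .nil) .nil)) .nil) .nil))) = true := by decide +kernel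
theorem cu_l4_ok : cu_l4.okT 11 m_ts [0, 2, 4, 6, 8, 10, 12] [1344, 621, 995, 0] (.cons [0] (.cons [0] (.cons [3] .nil .nil) (.cons [2] .nil (.cons [3] .nil .nil))) (.cons [1] (.cons [1] (.cons [2] .nil (.cons [3] .nil .nil)) (.cons [2] (.cons [0] .nil .nil) (.cons [3] (.cons [1] .nil .nil) .nil))) (.cons [2] (.cons [0] (.cons [0] .nil .nil) (.cons [1] .nil .nil)) (.cons [3] (.cons [0] .nil .nil) .nil)))) = true := by decide +kernel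
theorem cu_l5_ok : cu_l5.okT 11 m_ts [0, 2, 4, 6, 8, 10, 12] [392, 1344, 621, 995, 0] (.cons [0] .nil (.cons [1] .nil .nil)) = true := by decide +kernel
theorem cu_aux : cu_S.auxB [0, 2, 4, 6, 8, 10, 12] cu_ls [] (0 :: cu_lk) = true := by decide +kernel
theorem cu_cov : Nat.beq (Nat.land cu_l0.O (Srch.cover l0_ns (invW cu_S.u') cu_R0 9)) cu_l0.O = true := by decide +kernel
theorem cu_r0 : cu_S.run (.cons [] (.cons [] (.cons [] (.cons [] (.cons [] (.cons [] (.leaf 2000) .nil) .nil) .nil) .nil) .nil) (.cons [12] .nil (.cons [2, 12] .nil (.cons [0, 2, 12] .nil (.cons [4, 2, 12] .nil (.cons [10, 2, 12] .nil (.cons [2, 0, 2, 12] (.cons [8, 6, 4, 2, 0, 6, 4, 2, 10] .nil .nil) (.cons [4, 0, 2, 12] (.cons [0, 2, 0, 2, 4, 6, 8, 4, 2, 0, 6, 4, 2, 10] (.cons [0, 2, 8, 6, 4, 2, 0, 6] .nil .nil) .nil) (.cons [6, 4, 2, 12]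 .nil (.cons [10, 4, 2, 12] (.cons [6, 8, 4, 6, 2, 4, 6, 4, 2, 10] (.cons [4, 2, 6, 8, 4] .nil .nil) .nil) (.cons [4, 2, 0, 2, 12] (.cons [4, 2, 0, 2, 10] (.cons [0, 2, 0, 6, 4, 2, 0, 6] .nil .nil) .nil) (.cons [2, 4, 0, 2, 12] .nil (.cons [6, 4, 0, 2, 12] (.cons [6, 4, 6, 8, 0, 2, 4, 6, 4, 2, 10] .nil .nil) (.cons [4, 6, 4, 2, 12] .nil (.cons [8, 6, 4, 2, 12] .nil (.cons [10, 6, 4, 2, 12] .nil (.cons [2, 10, 4, 2, 12] .nil (.cons [2, 4, 2, 0, 2, 12] .nil (.cons [6, 4, 2, 0, 2, 12] .nil (.cons [0, 2, 4, 0, 2, 12] .nil (.cons [6, 2, 4, 0, 2, 12] (.cons [4, 6, 8, 2, 4, 6, 4, 2, 0, 2, 10] .nil .nil) (.cons [10, 2, 4, 0, 2, 12] .nil (.cons [12, 2, 4, 0, 2, 12] .nil (.cons [4, 6, 4, 0, 2, 12] (.cons [2, 0, 2, 4, 0, 2, 4, 6, 8, 4, 6, 4, 2, 10] .nil .nil) (.cons [8, 6, 4, 0, 2, 12] (.cons [0, 4, 6, 4, 2, 10] (.cons [0,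 2, 0, 4, 2, 8, 6, 4, 2, 0, 6] (.cons [2, 0, 3, 3, 0] (.cons [1, 2] (.cons [1] (.leaf 0) .nil) .nil) .nil) .nil) .nil) (.cons [2, 4, 6, 4, 2, 12] (.cons [10, 2, 4, 6, 8, 0, 6, 10, 2, 4, 6, 4, 2, 10] .nil .nil) (.cons [10, 4, 6, 4, 2, 12] .nil (.cons [2, 10, 6, 4, 2, 12] .nil (.cons [12, 2, 10, 4, 2, 12] .nil (.cons [6, 2, 4, 2, 0, 2, 12] .nil (.cons [10, 2, 4, 2, 0, 2, 12] .nil (.cons [4, 6, 4, 2, 0, 2, 12] .nil (.cons [8, 6, 4, 2, 0, 2, 12] .nil (.cons [6, 0, 2, 4, 0, 2, 12] .nil (.cons [10, 0, 2, 4, 0, 2, 12] (.cons [8, 0, 2, 0, 6, 4, 2, 10] (.cons [4, 6, 4, 2, 0, 8, 6, 4, 2, 0, 6] .nil .nil) .nil) (.cons [8, 6, 2, 4, 0, 2, 12] .nil (.cons [10, 6, 2, 4, 0, 2, 12] .nil (.cons [12, 6, 2, 4, 0, 2, 12] .nil (.cons [10, 12, 2, 4, 0, 2, 12] .nil (.cons [2, 4, 6, 4, 0, 2, 12] .nil (.cons [8, 4, 6, 4, 0, 2, 12] (.cons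 [6, 10, 2, 0, 4, 2, 10] (.cons [8, 0, 4, 2, 0, 6] .nil .nil) .nil) (.cons [8, 2, 4, 6, 4, 2, 12] .nil (.cons [10, 2, 4, 6, 4, 2, 12] .nil (.cons [12, 2, 4, 6, 4, 2, 12] .nil (.cons [6, 8, 4, 6, 4, 2, 12] .nil (.cons [2, 10, 4, 6, 4, 2, 12] (.cons [8, 6, 4, 6, 8, 0, 6, 10, 2, 4, 6, 4, 2, 10] (.cons [4, 6, 4, 2, 8, 6, 4, 2, 0, 6] .nil .nil) .nil) (.cons [2, 10, 8, 6, 4, 2, 12] .nil (.cons [4, 2, 10, 6, 4, 2, 12] .nil (.cons [4, 6, 2, 4, 2, 0, 2, 12] .nil (.cons [8, 6, 2, 4, 2, 0, 2, 12] .nil (.cons [10, 6, 2, 4, 2, 0, 2, 12] .nil (.cons [2, 4, 6, 4, 2, 0, 2, 12] .nil (.cons [8, 6, 0, 2, 4, 0, 2, 12] (.cons [8, 4, 2, 6, 4, 2, 0, 2, 10] .nil .nil) (.cons [10, 6, 0, 2, 4, 0, 2, 12] .nil (.cons [2, 4, 6, 2, 4, 0, 2, 12] .nil (.cons [6, 4, 6, 2, 4, 0, 2, 12] .nil (.cons [8, 4, 6, 2, 4, 0, 2, 12] .nil (.cons [10, 4,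 6, 2, 4, 0, 2, 12] .nil (.cons [12, 8, 6, 2, 4, 0, 2, 12] .nil (.cons [0, 2, 4, 6, 4, 0, 2, 12] (.cons [2, 4, 6, 4, 2, 0, 2, 10] (.cons [6, 4, 6, 8, 2, 4, 0] .nil .nil) .nil) (.cons [10, 2, 4, 6, 4, 0, 2, 12] .nil (.cons [6, 8, 4, 6, 4, 0, 2, 12] .nil (.cons [8, 0, 2, 4, 6, 4, 2, 12] .nil (.cons [10, 0, 2, 4, 6, 4, 2, 12] .nil (.cons [12, 0, 2, 4, 6, 4, 2, 12] .nil (.cons [6, 8, 2, 4, 6, 4, 2, 12] .nil (.cons [2, 10, 2, 4, 6, 4, 2, 12] (.cons [6, 8, 2, 4, 2, 6, 4, 2, 0, 2, 10] .nil .nil) (.cons [12, 10, 2, 4, 6, 4, 2, 12] (.cons [2, 4, 6, 8, 2, 4, 2, 6, 4, 2, 0, 2, 10] .nil .nil) (.cons [10, 12, 2, 4, 6, 4, 2, 12] .nil (.cons [4, 2, 10, 8, 6, 4, 2, 12] (.cons [8, 2, 0, 6, 4, 2, 10] (.cons [4, 0] .nil .nil) .nil) (.cons [10, 4, 6, 2, 4, 2, 0, 2, 12] .nil (.cons [10, 8, 6, 2, 4, 2, 0, 2, 12] .nil (.cons [8, 2,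 4, 6, 4, 2, 0, 2, 12] .nil (.cons [10, 2, 4, 6, 4, 2, 0, 2, 12] .nil (.cons [6, 8, 4, 6, 4, 2, 0, 2, 12] (.cons [2, 0, 2, 4, 6, 8, 4, 2, 0, 6, 4, 2, 10] .nil .nil) (.cons [10, 8, 6, 0, 2, 4, 0, 2, 12] .nil (.cons [0, 2, 4, 6, 2, 4, 0, 2, 12] .nil (.cons [8, 2, 4, 6, 2, 4, 0, 2, 12] .nil (.cons [10, 2, 4, 6, 2, 4, 0, 2, 12] .nil (.cons [12, 2, 4, 6, 2, 4, 0, 2, 12] .nil (.cons [4, 6, 4, 6, 2, 4, 0, 2, 12] (.cons [2, 8, 6, 4, 6, 8, 6, 0, 2, 4, 6, 4, 2, 10] (.cons [4, 8, 6, 4, 2, 6, 4, 6, 4] .nil .nil) .nil) (.cons [8, 6, 4, 6, 2, 4, 0, 2, 12] .nil (.cons [10, 6, 4, 6, 2, 4, 0, 2, 12] .nil (.cons [6, 8, 4, 6, 2, 4, 0, 2, 12] (.cons [2, 4, 6, 8, 2, 4, 6, 4, 2, 10] (.cons [6, 8, 0, 2, 0, 6] .nil .nil) .nil) (.cons [12, 8, 4, 6, 2, 4, 0, 2, 12] (.cons [6, 2, 4, 6, 8, 6, 2, 4, 6, 4, 2, 10] (.cons [4] .nil .nil) .nil)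 (.cons [8, 0, 2, 4, 6, 4, 0, 2, 12] .nil (.cons [12, 0, 2, 4, 6, 4, 0, 2, 12] .nil (.cons [6, 8, 2, 4, 6, 4, 0, 2, 12] .nil (.cons [10, 8, 2, 4, 6, 4, 0, 2, 12] .nil (.cons [12, 10, 2, 4, 6, 4, 0, 2, 12] .nil (.cons [4, 6, 8, 4, 6, 4, 0, 2, 12] .nil (.cons [6, 8, 0, 2, 4, 6, 4, 2, 12] .nil (.cons [2, 10, 0, 2, 4, 6, 4, 2, 12] .nil (.cons [4, 6, 8, 2, 4, 6, 4, 2, 12] (.cons [2, 0, 2, 4, 6, 8, 4, 6, 4, 2, 10] (.cons [0, 4, 2, 8, 6, 4, 2, 0, 6] .nil .nil) .nil) (.cons [2, 10, 8, 2, 4, 6, 4, 2, 12] .nil (.cons [2, 10, 12, 2, 4, 6, 4, 2, 12] .nil (.cons [2, 4, 6, 8, 4, 6, 4, 2, 12] .nil (.cons [2, 10, 6, 8, 4, 6, 4, 2, 12] (.cons [10, 0, 2, 4, 6, 8, 6, 0, 2, 4, 6, 4, 2, 10] (.cons [8, 4] .nil .nil) .nil) (.cons [8, 2, 4, 6, 2, 4, 2, 0, 2, 12] .nil (.cons [6, 8, 4, 6, 2, 4, 2, 0, 2, 12] .nil (.cons [6, 8, 2, 4, 6,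 4, 2, 0, 2, 12] .nil (.cons [10, 8, 2, 4, 6, 4, 2, 0, 2, 12] .nil (.cons [2, 0, 2, 4, 6, 2, 4, 0, 2, 12] (.cons [4, 2, 8, 6, 4, 0, 2, 4, 6, 8, 4, 6, 4, 2, 10] .nil .nil) (.cons [8, 0, 2, 4, 6, 2, 4, 0, 2, 12] .nil (.cons [10, 0, 2, 4, 6, 2, 4, 0, 2, 12] .nil (.cons [12, 10, 2, 4, 6, 2, 4, 0, 2, 12] .nil (.cons [10, 12, 2, 4, 6, 2, 4, 0, 2, 12] .nil (.cons [8, 4, 6, 4, 6, 2, 4, 0, 2, 12] .nil (.cons [2, 10, 6, 4, 6, 2, 4, 0, 2, 12] .nil (.cons [4, 6, 8, 4, 6, 2, 4, 0, 2, 12] .nil (.cons [10, 12, 8, 4, 6, 2, 4, 0, 2, 12] .nil (.cons [0, 2, 10, 4, 6, 2, 4, 0, 2, 12] .nil (.cons [2, 10, 12, 8, 6, 2, 4, 0, 2, 12] .nil (.cons [10, 8, 0, 2, 4, 6, 4, 0, 2, 12] (.cons [0, 4, 2, 0, 6, 4, 2, 10] (.cons [6, 4, 6, 8, 4, 2, 0, 6] .nil .nil) .nil) (.cons [12, 8, 0, 2, 4, 6, 4, 0, 2, 12] .nil (.cons [2, 10, 0, 2, 4, 6, 4, 0,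 2, 12] .nil (.cons [12, 10, 8, 2, 4, 6, 4, 0, 2, 12] .nil (.cons [2, 10, 12, 2, 4, 6, 4, 0, 2, 12] .nil (.cons [2, 4, 6, 8, 4, 6, 4, 0, 2, 12] .nil (.cons [4, 2, 10, 0, 2, 4, 6, 4, 2, 12] .nil (.cons [12, 2, 10, 0, 2, 4, 6, 4, 2, 12] (.cons [4, 0, 2, 4, 6, 8, 6, 0, 2, 4, 6, 4, 2, 10] (.cons [2, 4, 6] .nil .nil) .nil) (.cons [6, 4, 6, 8, 2, 4, 6, 4, 2, 12] .nil (.cons [12, 4, 6, 8, 2, 4, 6, 4, 2, 12] (.cons [2, 4, 6, 8, 10, 2, 4, 6, 4, 2, 10] (.cons [0, 4, 2, 0, 8, 6, 4, 2, 0, 6] .nil .nil) .nil) (.cons [12, 10, 6, 8, 2, 4, 6, 4, 2, 12] .nil (.cons [4, 2, 12, 10, 2, 4, 6, 4, 2, 12] (.cons [2, 4, 6, 8, 4, 2, 0, 6, 4, 2, 10] (.cons [4, 6, 8, 4] .nil .nil) .nil) (.cons [4, 2, 10, 12, 2, 4, 6, 4, 2, 12] .nil (.cons [12, 2, 10, 12, 2, 4, 6, 4, 2, 12] .nil (.cons [10, 2, 4, 6, 8, 4, 6, 4, 2, 12] .nil (.cons [12, 2,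 4, 6, 8, 4, 6, 4, 2, 12] .nil (.cons [2, 10, 4, 6, 8, 4, 6, 4, 2, 12] .nil (.cons [6, 8, 2, 4, 6, 2, 4, 2, 0, 2, 12] (.cons [4, 0, 2, 4, 6, 8, 6, 0, 2, 4, 6, 4, 2, 10] .nil .nil) (.cons [4, 6, 8, 4, 6, 2, 4, 2, 0, 2, 12] (.cons [8, 0, 6, 4, 2, 0, 2, 10] (.cons [0, 2, 0, 8, 6, 4, 2, 0, 6] .nil .nil) .nil) (.cons [10, 6, 8, 4, 6, 2, 4, 2, 0, 2, 12] .nil (.cons [0, 2, 10, 4, 6, 2, 4, 2, 0, 2, 12] .nil (.cons [12, 2, 10, 4, 6, 2, 4, 2, 0, 2, 12] .nil (.cons [2, 12, 10, 2, 4, 6, 4, 2, 0, 2, 12] .nil (.cons [2, 4, 6, 8, 4, 6, 4, 2, 0, 2, 12] (.cons [4, 0, 2, 6, 4, 6, 8, 6, 0, 2, 4, 6, 4, 2, 10] (.cons [8, 2, 0, 2, 6, 8, 4] .nil .nil) .nil) (.cons [2, 10, 0, 2, 4, 6, 2, 4, 0, 2, 12] .nil (.cons [2, 10, 6, 2, 4, 6, 2, 4, 0, 2, 12] .nil (.cons [2, 10, 8, 2, 4, 6, 2, 4, 0, 2, 12] .nil (.cons [12, 10, 8, 2, 4, 6, 2, 4,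 0, 2, 12] .nil (.cons [6, 8, 4, 6, 4, 6, 2, 4, 0, 2, 12] (.cons [2, 4, 6, 8, 6, 2, 4, 6, 4, 2, 10] (.cons [8, 2, 4, 0, 6] .nil .nil) .nil) (.cons [4, 2, 10, 6, 4, 6, 2, 4, 0, 2, 12] .nil (.cons [10, 4, 6, 8, 4, 6, 2, 4, 0, 2, 12] .nil (.cons [10, 12, 2, 10, 4, 6, 2, 4, 0, 2, 12] .nil (.cons [4, 2, 10, 12, 8, 6, 2, 4, 0, 2, 12] .nil (.cons [4, 6, 8, 0, 2, 4, 6, 4, 0, 2, 12] (.cons [0, 2, 10, 4, 2, 0, 2, 4, 6, 8, 4, 6, 4, 2, 10] (.cons [0, 2, 0] .nil .nil) .nil) (.cons [12, 2, 10, 0, 2, 4, 6, 4, 0, 2, 12] .nil (.cons [2, 10, 12, 8, 2, 4, 6, 4, 0, 2, 12] .nil (.cons [12, 2, 4, 6, 8, 4, 6, 4, 0, 2, 12] .nil (.cons [6, 4, 6, 8, 0, 2, 4, 6, 4, 2, 12] .nil (.cons [12, 4, 6, 8, 0, 2, 4, 6, 4, 2, 12] (.cons [0, 4, 10, 2, 4, 6, 8, 4, 6, 4, 2, 10] .nil .nil) (.cons [2, 10, 6, 8, 0, 2, 4, 6, 4, 2, 12] .nil (.cons [4, 2,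 10, 8, 0, 2, 4, 6, 4, 2, 12] .nil (.cons [6, 4, 2, 10, 0, 2, 4, 6, 4, 2, 12] (.cons [6, 4, 10, 2, 4, 6, 8, 4, 6, 4, 2, 10] (.cons [2, 4, 6, 4, 2, 8, 6, 4, 2, 0, 6] .nil .nil) .nil) (.cons [10, 6, 4, 6, 8, 2, 4, 6, 4, 2, 12] .nil (.cons [12, 6, 4, 6, 8, 2, 4, 6, 4, 2, 12] .nil (.cons [2, 10, 4, 6, 8, 2, 4, 6, 4, 2, 12] .nil (.cons [6, 4, 2, 12, 10, 2, 4, 6, 4, 2, 12] .nil (.cons [12, 4, 2, 10, 12, 2, 4, 6, 4, 2, 12] .nil (.cons [2, 0, 2, 4, 6, 8, 4, 6, 4, 2, 12] .nil (.cons [0, 2, 10, 4, 6, 8, 4, 6, 4, 2, 12] .nil (.cons [4, 6, 8, 2, 4, 6, 2, 4, 2, 0, 2, 12] .nil (.cons [2, 10, 8, 2, 4, 6, 2, 4, 2, 0, 2, 12] .nil (.cons [12, 2, 10, 8, 4, 6, 2, 4, 2, 0, 2, 12] .nil (.cons [10, 6, 8, 6, 2, 4, 6, 2, 4, 0, 2, 12] .nil (.cons [10, 4, 6, 8, 6, 4, 6, 2, 4, 0, 2, 12] (.cons [4, 6, 8, 2, 4, 6, 4, 2, 0, 2, 10] (.cons [2,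 6, 4, 2, 6, 4] .nil .nil) .nil) (.cons [12, 2, 4, 6, 8, 4, 6, 2, 4, 0, 2, 12] (.cons [2, 4, 0, 2, 4, 6, 8, 4, 6, 4, 2, 10] (.cons [0, 2, 4, 2, 0, 6] .nil .nil) .nil) (.cons [4, 0, 2, 10, 12, 4, 6, 2, 4, 0, 2, 12] .nil (.cons [2, 10, 6, 8, 0, 2, 4, 6, 4, 0, 2, 12] .nil (.cons [0, 2, 4, 6, 8, 2, 4, 6, 4, 0, 2, 12] .nil (.cons [10, 6, 4, 6, 8, 2, 4, 6, 4, 0, 2, 12] .nil (.cons [12, 6, 4, 6, 8, 2, 4, 6, 4, 0, 2, 12] .nil (.cons [2, 10, 12, 6, 8, 2, 4, 6, 4, 0, 2, 12] (.cons [8, 6, 0, 4, 10, 2, 4, 6, 8, 4, 6, 4, 2, 10] (.cons [0, 4, 2, 4, 6, 4] .nil .nil) .nil) (.cons [0, 2, 12, 10, 8, 2, 4, 6, 4, 0, 2, 12] .nil (.cons [4, 2, 10, 6, 8, 0, 2, 4, 6, 4, 2, 12] .nil (.cons [10, 2, 12, 10, 6, 8, 2, 4, 6, 4, 2, 12] .nil (.cons [2, 10, 0, 2, 4, 6, 8, 4, 6, 4, 2, 12] .nil (.cons [10, 2, 4, 6, 8, 4, 6, 2, 4, 2, 0, 2, 12] (.cons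 [2, 8, 0, 2, 4, 6, 4, 2, 10] (.cons [2, 6, 8, 4, 2, 0, 6] .nil .nil) .nil) (.cons [2, 0, 2, 4, 6, 8, 4, 6, 4, 2, 0, 2, 12] .nil (.cons [4, 2, 10, 4, 6, 8, 6, 4, 6, 2, 4, 0, 2, 12] .nil (.cons [12, 2, 10, 6, 4, 6, 8, 0, 2, 4, 6, 4, 2, 12] .nil (.cons [4, 2, 0, 2, 10, 6, 8, 0, 2, 4, 6, 4, 2, 12] .nil (.cons [12, 0, 2, 10, 4, 2, 12, 10, 2, 4, 6, 8, 4, 6, 4, 2, 12] .nil .nil)))))))))))))))))))))))))))))))))))))))))))))))))))))))))))))))))))))))))))))))))))))))))))))))))))))))))))))))))))))))))))))))))))))))))))))))))))))))))))))))))))))))))))))))))))))))) (⟨cu_l0.b, cu_l0.S, [], cu_R0, 0⟩ :: cu_tl) (0 :: cu_lk) Pd.nil 0 = true := by decide +kernel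
theorem cu_sound {G : Type*} [Group G] {φ : G →* Equiv.Perm ℕ} {γ : ℕ → G}
    (M : Model φ γ 11 l0_ns m_ts) : ChainSound φ (gp γ [0, 2, 4, 6, 8, 10, 12]) 11 [] cu_ls :=
  ⟨Level.ok_sound' M cu_l0_ok,
   Level.ok_sound' M cu_l1_ok,
   Level.ok_sound' M cu_l2_ok,
   Level.okT_sound M cu_l3_ok,
   Level.okT_sound M cu_l4_ok,
   Level.okT_sound M cu_l5_ok, trivial⟩
theorem cu_cent {G : Type*} [Group G] {φ : G →* Equiv.Perm ℕ} {γ : ℕ → G}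
    (C : Cert φ γ 11 l0_ns m_ts [0, 2, 4, 6, 8, 10, 12] c_ls) : Cent γ cu_S.u cu_S.Cl 9 :=
  have X := (C.rechain (cu_sound C.M) (by decide +kernel)).exact
  have A := Srch.auxB_sound (S := cu_S) C.M (K := ⊤) le_top rfl cu_aux
  have F := fun {tr : Tr} {R : ℕ} => Srch.found_of_run (S := cu_S) C.M C.base (by decide +kernel) X A (tr := tr) (R := R)
  Cent.of_found (S := cu_S) C.M X rfl (F cu_r0) cu_cov

end Cfsg.Agent.SuzC
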