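import Cfsg.Agent.SuzC.OutX
import Cfsg.Agent.SuzC.OutU
import Cfsg.Agent.SuzC.OutG
import Cfsg.Agent.CGT.Out2

set_option autoImplicit false
set_option maxRecDepth 100000
set_option linter.all false

namespace Cfsg.Agent.SuzC
open Cfsg.Agent.CGT

def od : OutD := ⟨11, m_ts, (chainBase [] c_ls), [10, 2, 4, 6, 4, 2, 4, 10, 12, 6, 8, 2, 4, 10, 12, 6, 8, 2, 4, 10, 12, 6, 8, 2, 4, 10, 12, 6, 8, 2, 4, 10, 12, 6, 8, 4, 6, 4, 2, 10], [6, 8, 4, 6, 4, 2, 10, 4, 6, 8, 4, 6, 2, 4, 2, 0, 2, 12, 0, 4, 6, 4, 2, 10, 8, 6, 4, 6, 8, 0, 2, 4, 6, 4, 2, 4, 6, 8, 4, 6, 4], [4, 2, 10, 4, 6, 8, 6, 2, 4, 6, 2, 4, 0, 2, 12, 2, 4, 6, 8, 2, 4, 6, 0, 2, 4, 6, 4, 2, 10, 8, 6, 4, 0, 2, 0, 2, 4, 6, 8, 4], [6, 8, 4, 6, 4, 2, 10, 4, 6, 8, 4, 6, 2, 4, 2, 0, 2, 12, 0, 4, 6,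 4, 2, 10, 8, 6, 4, 6, 8, 0, 2, 4, 6, 4, 2, 4, 6, 8, 4, 6, 4], 11, 2, 1, 3, 9, [1], [[12, 8, 6, 0, 2, 4, 0, 2, 10, 2, 12, 4, 6, 8, 4, 6, 2, 4, 0, 2, 12, 2, 0, 4, 6, 10, 2, 4, 6, 4, 2, 10, 8, 6, 4, 0, 2, 0, 2, 4, 6, 8, 4, 6, 4, 2, 6, 4, 6, 8, 6, 4, 6]], [[1, 5, 5, 1, 1, 1, 5, 5, 1, 1, 1, 5, 5, 1, 1]], [[[10, 2, 4, 6, 4, 2, 4, 10, 12, 6, 8, 2, 4, 10, 12, 6, 8, 2, 4, 10, 12, 6, 8, 2, 4, 10, 12, 6, 8, 2, 4, 10, 12, 6, 8, 4, 6, 4, 2, 10], [6, 8, 4, 6, 4, 2, 10, 4, 6, 8, 4, 6, 2, 4, 2, 0, 2, 12, 0, 4, 6, 4, 2, 10, 8, 6, 4, 6, 8, 0, 2, 4, 6, 4, 2, 4, 6, 8, 4, 6, 4], [4, 2, 10, 4, 6, 8, 6, 2, 4, 6, 2, 4, 0, 2, 12, 2, 4, 6, 8, 2, 4, 6, 0, 2, 4, 6, 4, 2, 10, 8, 6, 4, 0, 2, 0, 2, 4, 6, 8, 4]], [[12, 10, 2, 4, 6, 4, 2, 10, 12, 2, 4, 6, 4, 2, 12, 2, 6,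 4, 2, 0, 2, 10, 8, 4, 6, 4, 0, 2, 0, 2, 6, 8, 6, 4, 6, 4, 6, 8, 2, 0, 4, 2, 0, 6, 4, 2, 4, 6, 4, 0, 2, 0, 2, 8, 6, 4, 6, 4], [6, 8, 4, 6, 4, 2, 10, 4, 6, 8, 4, 6, 2, 4, 2, 0, 2, 12, 0, 4, 6, 4, 2, 10, 8, 6, 4, 6, 8, 0, 2, 4, 6, 4, 2, 4, 6, 8, 4, 6, 4], [8, 6, 12, 4, 2, 10, 2, 4, 6, 8, 0, 2, 4, 6, 4, 0, 2, 12, 2, 0, 2, 4, 0, 2, 4, 6, 8, 4, 6, 4, 2, 10, 4, 2, 0, 2, 4, 6, 8, 4, 6, 4, 2, 0, 2, 6, 8, 4, 6, 4, 6]]]⟩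
theorem od_b : od.basic 448345497600 0 = true := by decide +kernel
theorem od_c : conjB 11 m_ts (chainBase [] c_ls) [10, 2, 4, 6, 0, 2, 4, 6, 12, 2, 4] od.u cu_S.u od.Cl cu_S.Cl = true := by decide +kernel
theorem od_k1 : od.cands 1 ([] :: od.Cl) [[0, 1, 1, 1, 1, 2, 1, 1, 1, 1], [1, 1, 1, 1, 1, 1, 1, 1, 1, 1]] = true := by decide +kernel
def bW : List (List ℕ) := [[0], [2], [4], [6], [8], [12], [10]]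
theorem od_s : od.second bW [0, 8, 12, 4, 2, 0, 2, 4, 6, 8, 4, 6, 4, 2, 12, 4, 0, 2, 4, 6, 8, 4, 6, 4, 2, 10, 0, 2, 4, 6, 8, 2, 0, 2, 4, 6, 4, 2, 6, 4, 6, 4] [12, 10, 2, 4, 6, 4, 2, 10, 12, 2, 4, 6, 4, 2, 12, 2, 6, 4, 2, 0, 2, 10, 8, 4, 6, 4, 0, 2, 0, 2, 6, 8, 6, 4, 6, 4, 6, 8, 2, 0, 4, 2, 0, 6, 4, 2, 4, 6, 4, 0, 2, 0, 2, 8, 6, 4, 6, 4] [8, 6, 12, 4, 2, 10, 2, 4, 6, 8, 0, 2, 4, 6, 4, 0, 2, 12, 2, 0, 2, 4, 0, 2, 4, 6, 8, 4, 6, 4, 2, 10, 4, 2, 0, 2, 4, 6, 8, 4, 6, 4, 2, 0, 2, 6, 8, 4, 6, 4, 6] = true := by decide +kernel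
theorem od_o : od.outer [12, 10, 2, 4, 6, 4, 2, 10, 12, 2, 4, 6, 4, 2, 12, 2, 6, 4, 2, 0, 2, 10, 8, 4, 6, 4, 0, 2, 0, 2, 6, 8, 6, 4, 6, 4, 6, 8, 2, 0, 4, 2, 0, 6, 4, 2, 4, 6, 4, 0, 2, 0, 2, 8, 6, 4, 6, 4] [8, 6, 12, 4, 2, 10, 2, 4, 6, 8, 0, 2, 4, 6, 4, 0, 2, 12, 2, 0, 2, 4, 0, 2, 4, 6, 8, 4, 6, 4, 2, 10, 4, 2, 0, 2, 4, 6, 8, 4, 6, 4, 2, 0, 2, 6, 8, 4, 6, 4, 6] ([] :: od.Cl) [[0, 1, 1, 1, 1, 1, 1, 1, 1, 1], [1, 1, 1, 1, 1, 1, 1, 1, 1, 1]] = true := by decide +kernel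
theorem out_card {G : Type*} [Group G] {φ : G →* Equiv.Perm ℕ} {γ : ℕ → G} (C : Cert φ γ 11 l0_ns m_ts [0, 2, 4, 6, 8, 10, 12] c_ls)
    (hN : Nat.card G = 448345497600) (β : MulAut G) (hβ : ∀ j, β (γ j) = wg γ bW j) : Nat.card (Cfsg.Out G) = 2 :=
  haveI := C.fin
  OutD.out_two (D := od) C.M C.base hN (by norm_num [od]) od_b (cx_cent C) ((cu_cent C).conj C.M C.base od_c)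
    (by
    intro k hk
    simp only [od, List.mem_cons, List.not_mem_nil, or_false] at hk
    rcases hk with rfl
    exacts [OutD.cands_sound C.M C.base od_b od_k1]) (g_top C) rfl β hβ od_s od_o
theorem out_suz : Nat.card (Cfsg.Out Cfsg.Spor.Suz) = 2 := by
  obtain ⟨φ, C⟩ := cert
  have h : Holds (ext (wg γ bW)) RR := relsD_sound C.M C.base (by decide +kernel) (fun _ _ => trivial) (by decide +kernel)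
  obtain ⟨f, hf⟩ := pres_lift gens_all gens_nodup (edges := Cfsg.Spor.Suz.edges) (extra := Cfsg.Spor.Suz.extra) (p := wg γ bW)
    (fun j hj => by rw [wg, nth_eq, List.getD_eq_default bW _ hj]; rfl) (h.subR (by decide +kernel))
  obtain ⟨β, hβ⟩ := exists_aut C.M C.base (by decide +kernel) C.gen f hf (by decide +kernel)
  exact out_card C card_eq β hβ

end Cfsg.Agent.SuzC
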