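import Cfsg.Agent.Mult.Slices
import Cfsg.Agent.SuzC.Tabs

set_option autoImplicit false
set_option Elab.async false
set_option maxRecDepth 100000
set_option linter.all false

namespace Cfsg.Agent.SuzC
open Cfsg.Agent.CGT

open Cfsg.Agent.Mult

noncomputable def u3_D : PC := ⟨3, 7, 2, 26,
  [[0, 0x44, 0x110, 0x40, 0x100, 0x400, 0x1000], [0, 0x400, 0xa50, 0x440, 0x1100, 0x400, 0x1000], [0, 0, 0x1400, 0x1040, 0x1500, 0x400, 0x1000], [0, 0, 0, 0, 0x100, 0x400, 0x1000], [0, 0, 0, 0, 0, 0x400, 0x1000], [0, 0, 0, 0, 0, 0, 0x1000], [0, 0, 0, 0, 0, 0, 0]],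
  [0xf, 0x3f, 0xf, 0, 0, 0, 0],
  [(7, 0x40, 0x1805), (7, 0x100, 0x2051), (8, 1, 0x2a82), (8, 0x40, 0x2980), (8, 0x100, 0x1940)], 19, 0x40401050302000500030102060000060000⟩
noncomputable def u3_ds : List (List ℕ) := [[4, 10, 8, 6, 2, 0, 2, 4, 6, 2, 0, 4, 2, 0, 8, 6, 4, 2, 0, 10, 4, 6], [4, 6, 12, 2, 4, 8, 0, 2, 0, 10, 2, 4, 6, 4, 2, 0, 8, 6, 4, 6, 10, 12, 2, 4, 6, 4, 8, 6, 4, 2, 0, 12, 2, 10, 12], [2, 10, 6, 12, 10, 2, 10, 2, 4, 6, 4, 2, 10, 12, 2, 4, 6, 4, 2, 12, 8, 4, 6, 2, 4, 2, 0, 2, 10, 2, 4, 6, 8, 10, 2, 4, 6, 4, 2, 10, 8, 6, 4, 2, 6], [6, 10, 2, 10, 12, 4, 0, 2, 10, 6, 4, 6, 8, 6, 2, 4, 6, 2, 4, 0, 2, 12, 10, 8, 6, 0, 2, 4, 6, 8, 2, 4, 0, 2, 6, 4, 2, 0, 2, 8, 6, 4, 6, 8, 6], [6, 12, 2, 4, 10, 2, 12, 2, 4, 6, 8, 4, 6, 2, 4, 0, 2, 12, 4, 6, 8, 4, 6, 4, 2,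 10, 0, 2, 0, 6, 4, 0, 8, 6, 4, 8, 6], [0, 8, 6, 2, 0, 2, 10, 0, 2, 4, 6, 8, 2, 0, 4, 2, 6, 4, 6, 10, 2, 0, 2, 12, 2, 0, 4, 6, 4, 2, 8, 6, 4, 10, 2, 12, 2, 10, 4, 0, 2, 0, 10, 6], [4, 6, 4, 10, 0, 2, 0, 10, 12, 2, 4, 6, 4, 2, 10, 12, 2, 0, 10], [10, 2, 4, 6, 4, 2, 10, 12, 2, 4, 6, 4, 2, 12, 10, 0, 2, 4, 6, 8, 4, 6, 4, 0, 2, 10, 4, 6, 8, 4, 6, 4, 10, 2, 0, 4, 2, 0, 2, 6, 4, 2, 10, 6], [4, 12, 2, 10, 6, 2, 0, 2, 10, 0, 2, 0, 2, 4, 6, 4, 2, 0, 8, 10, 2, 4, 6, 4, 2, 10, 6, 4, 2, 0, 6, 10, 12, 2, 0, 4, 6, 4, 2, 0, 8, 6, 4, 2, 6, 10]]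
noncomputable def u3_c : Mult.Cert := ⟨59, 22, [[], [], [], [1], [2], [10], [17]],
  [([10, 17, 18, 18, 40, 48], 1, 0xb4651d28aeb989b73f)],
  [[0x6e26347, 0, 0, 0xe95b10dd6, 0x5b6979ac3, 0x4e6ab2b29, 0x5d20e3bc], [0, 0xd783f5760e, 0x21942e68acd, 0, 0x45d8bbf5, 0xc546562aa3, 0x14b0c573cad], [0, 0, 0x151c4836a53, 0, 0x6d79359, 0x14eecd2b3ee, 0x212c1affd43], [0, 0, 0, 0x81bf1, 0xa21e9c1e, 0x4def8a566, 0x8a8d67b6], [0, 0, 0, 0, 0x2b3fb, 0x19fa83722, 0x2e2f2292], [0, 0, 0, 0, 0, 0x521ae82, 0x74e74f819], [0, 0, 0, 0, 0, 0, 0x1b5e4d6]]⟩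
theorem u3_all : allB u3_D u3_c [.assoc 4 8 4, .assoc 0x10 0x20 0x10, .assoc 0x800 0x400 0x10, .assoc 0x400 0x20 0x10, .assoc 0x400 4 1, .assoc 0x400 0x10 1, .assoc 0x1000 4 1, .assoc 0x1000 0x10 1, .assoc 0x40 4 1, .assoc 0x80 0x40 4, .assoc 0x80 0x40 0x10, .assoc 0x100 4 1, .assoc 0x40 0x10 1, .assoc 4 2 1, .assoc 0x10 2 1, .assoc 0x200 0x100 0x10, .assoc 0x40 0x10 4, .assoc 0x100 0x10 4, .assoc 0x10 4 1, .fus 7 [1, 0] [0, 1], .fus 7 [0, 0, 0] [], .fus 7 [1, 1, 1] [], .fus 8 [3, 2] [2, 3], .fus 8 [4, 2] [2, 4], .fus 8 [2, 2, 2] []] 11 m_ts u3_ds [2, 518, 45, 25, 1, 995, 0] [(1, [0x1000, 0x100, 0x40, 0x10]), (220, [0x2211]), (16, [0x64]), (0, [0x2400])] = true := by decide +kernel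
theorem u3_pb {G : Type*} [Group G] [Finite G] {φ : G →* Equiv.Perm ℕ} {γ : ℕ → G}
    (M : Model φ γ 11 l0_ns m_ts) (hB : IsBase φ ⊤ [2, 518, 45, 25, 1, 995, 0]) (hN : Nat.card G = 448345497600) : PBound G 3 1 :=
  pbound_all M hB hN (by decide +kernel) (by decide +kernel) u3_all

end Cfsg.Agent.SuzC
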