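import Cfsg.Agent.SuzC.Cert
import Cfsg.Agent.CGT.Out

set_option autoImplicit false
set_option maxRecDepth 100000
set_option linter.all false

namespace Cfsg.Agent.SuzC
open Cfsg.Agent.CGT

def cx_l0 : Level := ⟨0, [[0], [2], [4], [6], [8], [10], [12]], [6, 1, 0, 2, 5, 3, 1, 2, 4, 1, 5, 0, 3, 6, 1, 2, 3, 1, 6, 0, 5, 4, 2, 1, 0, 2, 1, 5], 0x3fffffffffffffffffffffffffffffffffffffffffffffffffffffffffffffffffffffffffffffffffffffffffffffffffffffffffffffffffffffffffffffffffffffffffffffffffffffffffffffffffffffffffffffffffffffffffffffffffffffffffffffffffffffffffffffffffffffffffffffffffffffffffffffffffffffffffffffffffffffffffffffffffffffffffffffffffffffffffffffffffffffffffffffffffffffffffffffffffffffffffffffffffffffffffffffffffffffffffffffffffffffffffffffffffffffffffffffffffffffffffffff, 1782⟩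
def cx_l1 : Level := ⟨995, [[0], [2], [4], [6], [8], [10]], [5, 1, 0, 2, 1, 3, 2, 0, 4, 1, 5, 3, 0, 2, 1, 5, 0, 3, 4, 1, 2, 0, 1], 0x338007f20c00000000007f00000000008000804eeb80200d31802000000000000000000000000006781e72000040000000000000080181fc0d83ce8a80048c000e3fe382258640c000000000000000000000079c81e600100200000000000000703c0fe0611c474e00140c40003f3fc23904d00262800000000000000079803a00600000000000e787fe047474601cc5000cff9d4744250000000001d034530000000247ffe3ae88d25039ffd11100000034694c00001a7ffba44444ff88800001a694800027fd111f10000d240007a2390008000691000000800000000000, 416⟩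
def cx_l2 : Level := ⟨5, [[0], [2], [4], [6], [8]], [0, 2, 1, 3, 2, 4, 0, 1, 3, 0, 2, 1, 0, 3, 2, 1, 0, 2, 3, 1], 0x20000440000000000000010000000000000000000b00600008000000000000000000000000800000000009c000000000000000000000000000000025b00000f00000000800000000600000000000400008000000000dc7002000002000001580000000000000006b2000000bc00000007803580012ec0000003005ba000280d98c3022b0004b0000000000008ee00023b100001819806c004250b806c184443614dc08000000330006c20006606002a3818211a309e08000098019003020028c08213109c800606044053049c97808c242b3a9f82665777f3d6effdffffe, 315⟩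
def cx_l3 : Level := ⟨528, [[6, 2, 4, 2, 0, 2, 4, 6, 8, 6], [8, 6, 2, 4, 2, 0, 2, 4, 6, 8, 6], [4, 6, 2, 4, 6, 8, 4, 6, 4, 2, 6, 4]], [], 0x20000000000001000000000980002000002000000100000000000000000280002000000000000000001000000000300000100021260000004800000002b000000000000000000000000800300080000000000001000480000008400000100001151000002800000000002000000000000000000c002001000000000000100121000000000040000000000000000200000001000012010000100000000000000000000000e8000000001880000000000000000000f80000000c800000000000f00000200000000800000000000000000000000000, 80⟩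
def cx_l4 : Level := ⟨342, [[6, 8, 6, 4, 6, 8, 2, 4, 6, 4, 2, 8, 6, 4, 6, 8], [4, 8, 2, 0, 2, 4, 6, 8, 0, 2, 4, 6, 2, 4, 0, 2, 4, 6, 4, 6, 8]], [], 0x200000200500000000000000000002000000000000040000002400000000000000000000000000200800000200010000080000000000000000010000000000000000810000000a0000000000000000000000000000002000000000000000000000000000040000000000000000000000000000010000000000000000000000000040000000000000000000000000000000000000000000000000000000000000000000000000000000000000000000040000000000000000004000000000000000000000000000000000000000000000000000000000000000000, 24⟩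
def cx_ls : List Level := [cx_l0, cx_l1, cx_l2, cx_l3, cx_l4]
def cx_S : Srch := ⟨11, m_ts, (chainBase [] c_ls), [10, 2, 4, 6, 4, 2, 4, 10, 12, 6, 8, 2, 4, 10, 12, 6, 8, 2, 4, 10, 12, 6, 8, 2, 4, 10, 12, 6, 8, 2, 4, 10, 12, 6, 8, 4, 6, 4, 2, 10], [10, 2, 4, 6, 4, 2, 4, 10, 12, 6, 8, 2, 4, 10, 12, 6, 8, 2, 4, 10, 12, 6, 8, 2, 4, 10, 12, 6, 8, 2, 4, 10, 12, 6, 8, 4, 6, 4, 2, 10], []⟩
def cx_lk : List ℕ := [1, 996, 6, 529]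
def cx_tl : List Level := [cx_l1, cx_l2, cx_l3, cx_l4]
def cx_R0 : ℕ := 0x840000000000000000008000000000002000000000080000000000000000800000000000400000280080000a00000010000000000000082004420500440000010610013810916801912012180c2808012591084440a0401350f9c03bae3051e229f226f96777b46ff59fffdf
theorem cx_l0_ok : (ptsOK 11 [] && (wordsIn [0, 2, 4, 6, 8, 10, 12] cx_l0.S && cx_l0.ok 11 l0_ns m_ts [])) = true := by decide +kernel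
theorem cx_l1_ok : (ptsOK 11 [0] && (wordsIn [0, 2, 4, 6, 8, 10, 12] cx_l1.S && cx_l1.ok 11 l0_ns m_ts [0])) = true := by decide +kernel
theorem cx_l2_ok : (ptsOK 11 [995, 0] && (wordsIn [0, 2, 4, 6, 8, 10, 12] cx_l2.S && cx_l2.ok 11 l0_ns m_ts [995, 0])) = true := by decide +kernel
theorem cx_l3_ok : cx_l3.okT 11 m_ts [0, 2, 4, 6, 8, 10, 12] [5, 995, 0] (.cons [0] (.cons [0] (.cons [0] (.cons [2] .nil (.cons [4] (.cons [0] .nil (.cons [1] (.cons [4] .nil .nil) .nil)) .nil)) (.cons [2] .nil .nil)) (.cons [2] (.cons [4] (.cons [1] .nil .nil) .nil) (.cons [4] (.cons [0] (.cons [0] .nil (.cons [4] (.cons [0] .nil .nil) .nil)) (.cons [1] (.cons [4] (.cons [2] .nil (.cons [1] (.cons [1] .nil .nil) .nil)) .nil) .nil)) .nil))) (.cons [1] (.cons [1] (.cons [1] (.cons [1] (.cons [1] .nil (.cons [2] .nil .nil)) (.cons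 [2] .nil (.cons [4] (.cons [2] .nil .nil) .nil))) (.cons [2] (.cons [4] .nil .nil) (.cons [4] (.cons [1] (.cons [1] .nil (.cons [2] .nil (.cons [4] .nil .nil))) (.cons [2] (.cons [4] .nil .nil) .nil)) .nil))) (.cons [2] (.cons [4] (.cons [0] .nil (.cons [1] (.cons [4] .nil .nil) .nil)) .nil) .nil)) (.cons [2] (.cons [4] (.cons [0] (.cons [4] .nil .nil) (.cons [1] (.cons [4] .nil .nil) .nil)) .nil) (.cons [4] (.cons [0] (.cons [0] .nil (.cons [2] (.cons [4] .nil .nil) (.cons [4] (.cons [0] (.cons [0] .nil .nil) (.cons [1] (.cons [4] .nil .nil) (.cons [2] .nil .nil))) .nil))) (.cons [1] (.cons [1] (.cons [1] (.cons [1] .nil (.cons [2] .nil (.cons [4] .nil .nil))) (.cons [2] .nil (.cons [4] .nil .nil))) (.cons [2] .nil (.cons [4] (.cons [0] (.cons [2] .nil .nil) (.cons [1] (.cons [2] .nil .nil) .nil)) .nil))) (.cons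 [2] (.cons [4] (.cons [0] .nil .nil) .nil) .nil))) .nil)))) = true := by decide +kernel
theorem cx_l4_ok : cx_l4.okT 11 m_ts [0, 2, 4, 6, 8, 10, 12] [528, 5, 995, 0] (.cons [0] (.cons [0] .nil (.cons [2] (.cons [0] .nil (.cons [1] .nil .nil)) (.cons [3] (.cons [1] .nil (.cons [0] .nil .nil)) .nil))) (.cons [1] (.cons [2] .nil (.cons [3] .nil .nil)) (.cons [2] (.cons [0] (.cons [3] .nil .nil) (.cons [1] (.cons [3] .nil .nil) (.cons [2] .nil .nil))) (.cons [3] (.cons [0] (.cons [2] .nil .nil) (.cons [1] (.cons [2] .nil .nil) (.cons [3] .nil .nil))) .nil)))) = true := by decide +kernel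
theorem cx_aux : cx_S.auxB [0, 2, 4, 6, 8, 10, 12] cx_ls [] (0 :: cx_lk) = true := by decide +kernel
theorem cx_cov : Nat.beq (Nat.land cx_l0.O (Srch.cover l0_ns (invW cx_S.u') cx_R0 10)) cx_l0.O = true := by decide +kernel
theorem cx_r0 : cx_S.run (.cons [] (.cons [] (.cons [] (.cons [] (.cons [] (.leaf 2000) .nil) .nil) .nil) .nil) (.cons [12] (.cons [8, 6, 10, 2, 0, 4, 2, 10] .nil .nil) (.cons [2, 12] .nil (.cons [0, 2, 12] (.cons [2, 6, 4, 6, 8, 6, 0, 2, 4, 6, 4, 2, 10] .nil .nil) (.cons [4, 2, 12] .nil (.cons [2, 0, 2, 12] .nil (.cons [4, 0, 2, 12] .nil (.cons [6, 4, 2, 12] .nil (.cons [10, 4, 2, 12] (.cons [2, 8, 6, 4, 6, 8, 0, 10, 2, 4, 6, 4, 2, 10] (.cons [2, 0, 2, 4, 6, 8, 2, 4, 6, 0, 2, 4, 0] .nil .nil) .nil) (.cons [4, 2, 0, 2, 12] .nil (.cons [2, 4, 0, 2, 12] .nil (.cons [6, 4, 0, 2, 12] .nil (.cons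 [4, 6, 4, 2, 12] .nil (.cons [8, 6, 4, 2, 12] .nil (.cons [10, 6, 4, 2, 12] (.cons [2, 6, 4, 6, 8, 0, 10, 2, 4, 6, 4, 2, 10] (.cons [0] .nil .nil) .nil) (.cons [2, 10, 4, 2, 12] .nil (.cons [2, 4, 2, 0, 2, 12] .nil (.cons [6, 4, 2, 0, 2, 12] .nil (.cons [0, 2, 4, 0, 2, 12] .nil (.cons [6, 2, 4, 0, 2, 12] .nil (.cons [4, 6, 4, 0, 2, 12] .nil (.cons [8, 6, 4, 0, 2, 12] (.cons [0, 2, 6, 4, 6, 8, 6, 4, 6, 2, 4, 6, 4, 2, 10] (.cons [2, 0, 2, 4, 6, 8, 2, 4, 6, 2, 4, 0] (.cons [4, 0, 4, 2] .nil .nil) .nil) .nil) (.cons [8, 4, 6, 4, 2, 12] .nil (.cons [10, 8, 6, 4, 2, 12] .nil (.cons [2, 10, 6, 4, 2, 12] .nil (.cons [12, 2, 10, 4, 2, 12] .nil (.cons [6, 2, 4, 2, 0, 2, 12] .nil (.cons [10, 2, 4, 2, 0, 2, 12] (.cons [4, 6, 8, 6, 0, 2, 4, 6, 4, 2, 10] .nil .nil) (.cons [4, 6, 4, 2, 0, 2, 12] (.cons [6, 8, 0, 4, 6, 4, 2,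 0, 2, 10] (.cons [4, 6, 8, 4, 6, 4, 2, 0] .nil .nil) .nil) (.cons [8, 6, 4, 2, 0, 2, 12] .nil (.cons [6, 0, 2, 4, 0, 2, 12] .nil (.cons [4, 6, 2, 4, 0, 2, 12] .nil (.cons [8, 6, 2, 4, 0, 2, 12] .nil (.cons [2, 4, 6, 4, 0, 2, 12] .nil (.cons [0, 2, 4, 6, 4, 2, 12] .nil (.cons [8, 2, 4, 6, 4, 2, 12] .nil (.cons [12, 2, 4, 6, 4, 2, 12] (.cons [2, 4, 6, 8, 0, 6, 10, 2, 4, 6, 4, 2, 10] (.cons [4, 6, 0, 2, 4, 6, 4] (.cons [0, 4, 0] .nil .nil) .nil) .nil) (.cons [6, 8, 4, 6, 4, 2, 12] .nil (.cons [10, 8, 4, 6, 4, 2, 12] .nil (.cons [2, 10, 4, 6, 4, 2, 12] .nil (.cons [4, 2, 10, 6, 4, 2, 12] .nil (.cons [4, 6, 2, 4, 2, 0, 2, 12] .nil (.cons [8, 6, 2, 4, 2, 0, 2, 12] (.cons [8, 6, 4, 6, 8, 2, 4, 6, 4, 2, 10] .nil .nil) (.cons [2, 4, 6, 4, 2, 0, 2, 12] .nil (.cons [8, 4, 6, 4, 2, 0, 2, 12] .nil (.cons [8, 6, 0, 2, 4, 0,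 2, 12] .nil (.cons [6, 4, 6, 2, 4, 0, 2, 12] .nil (.cons [8, 4, 6, 2, 4, 0, 2, 12] (.cons [6, 8, 4, 6, 2, 4, 6, 4, 2, 10] (.cons [2, 4, 6, 8, 2, 4, 6, 4, 2, 0] .nil .nil) .nil) (.cons [12, 4, 6, 2, 4, 0, 2, 12] .nil (.cons [10, 12, 6, 2, 4, 0, 2, 12] (.cons [4, 2, 0, 2, 6, 4, 6, 8, 0, 2, 4, 6, 4, 2, 10] (.cons [2, 0, 4, 6, 4, 2, 0, 2, 4, 6, 8, 4, 6, 4] (.cons [2, 4, 1, 4, 0] .nil .nil) .nil) .nil) (.cons [2, 10, 12, 2, 4, 0, 2, 12] .nil (.cons [0, 2, 4, 6, 4, 0, 2, 12] (.cons [6, 8, 4, 6, 2, 4, 6, 4, 2, 10] (.cons [2, 4, 6, 8, 2, 4, 6, 2, 4, 0] .nil .nil) .nil) (.cons [8, 2, 4, 6, 4, 0, 2, 12] .nil (.cons [10, 2, 4, 6, 4, 0, 2, 12] .nil (.cons [6, 8, 4, 6, 4, 0, 2, 12] .nil (.cons [8, 0, 2, 4, 6, 4, 2, 12] .nil (.cons [6, 8, 2, 4, 6, 4, 2, 12] .nil (.cons [12, 10, 2, 4, 6, 4, 2, 12] .nil (.cons [10, 6, 8, 4,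 6, 4, 2, 12] .nil (.cons [2, 10, 8, 4, 6, 4, 2, 12] .nil (.cons [4, 2, 10, 8, 6, 4, 2, 12] (.cons [2, 0, 6, 4, 2, 0, 2, 10] .nil .nil) (.cons [2, 4, 6, 2, 4, 2, 0, 2, 12] .nil (.cons [8, 4, 6, 2, 4, 2, 0, 2, 12] .nil (.cons [8, 2, 4, 6, 4, 2, 0, 2, 12] .nil (.cons [6, 8, 4, 6, 4, 2, 0, 2, 12] .nil (.cons [8, 2, 4, 6, 2, 4, 0, 2, 12] .nil (.cons [8, 6, 4, 6, 2, 4, 0, 2, 12] .nil (.cons [10, 6, 4, 6, 2, 4, 0, 2, 12] .nil (.cons [6, 8, 4, 6, 2, 4, 0, 2, 12] (.cons [4, 0, 2, 4, 6, 8, 4, 6, 4, 2, 10] (.cons [4, 6, 4, 2, 0, 2, 4, 6, 8, 4, 6, 4] (.cons [4, 1, 4] (.cons [0, 3] (.leaf 3) .nil) .nil) .nil) .nil) (.cons [10, 8, 4, 6, 2, 4, 0, 2, 12] (.cons [6, 10, 0, 2, 4, 0, 2, 4, 6, 8, 4, 6, 4, 2, 10] (.cons [4, 6, 2, 4, 6, 8, 2, 0, 2, 0, 2, 4, 6, 4] .nil .nil) .nil) (.cons [10, 12, 8, 6, 2, 4, 0, 2, 12] .nil (.cons [8,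 0, 2, 4, 6, 4, 0, 2, 12] (.cons [0, 4, 2, 0, 2, 10] (.cons [4, 6, 2, 4, 6, 8, 2, 0, 2, 0, 2, 4, 6, 4] (.cons [4, 1, 1, 4] (.cons [3, 1] (.leaf 3) .nil) .nil) .nil) .nil) (.cons [12, 10, 2, 4, 6, 4, 0, 2, 12] .nil (.cons [10, 12, 2, 4, 6, 4, 0, 2, 12] .nil (.cons [12, 8, 0, 2, 4, 6, 4, 2, 12] .nil (.cons [2, 10, 0, 2, 4, 6, 4, 2, 12] .nil (.cons [4, 6, 8, 2, 4, 6, 4, 2, 12] .nil (.cons [12, 6, 8, 2, 4, 6, 4, 2, 12] (.cons [6, 4, 6, 8, 6, 0, 4, 6, 10, 2, 4, 6, 4, 2, 10] .nil .nil) (.cons [12, 10, 8, 2, 4, 6, 4, 2, 12] (.cons [8, 2, 4, 2, 6, 4, 2, 0, 2, 10] .nil .nil) (.cons [10, 12, 8, 2, 4, 6, 4, 2, 12] (.cons [2, 4, 6, 8, 0, 4, 2, 0, 6, 4, 2, 10] .nil .nil) (.cons [2, 12, 10, 2, 4, 6, 4, 2, 12] .nil (.cons [2, 4, 6, 8, 4, 6, 4, 2, 12] .nil (.cons [10, 4, 6, 8, 4, 6, 4, 2, 12] .nil (.cons [2, 10, 6, 8, 4, 6, 4,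 2, 12] .nil (.cons [4, 6, 8, 4, 6, 4, 2, 0, 2, 12] .nil (.cons [2, 0, 2, 4, 6, 2, 4, 0, 2, 12] .nil (.cons [8, 0, 2, 4, 6, 2, 4, 0, 2, 12] .nil (.cons [8, 6, 2, 4, 6, 2, 4, 0, 2, 12] .nil (.cons [10, 6, 2, 4, 6, 2, 4, 0, 2, 12] (.cons [4, 6, 8, 10, 2, 4, 6, 4, 2, 10] (.cons [0, 2, 4, 6, 8, 6, 2, 0, 2, 4, 6, 4] .nil .nil) .nil) (.cons [12, 6, 2, 4, 6, 2, 4, 0, 2, 12] (.cons [0, 2, 4, 6, 8, 0, 6, 10, 2, 4, 6, 4, 2, 10] (.cons [2, 4, 6, 8, 2, 4, 6, 2, 4, 0] .nil .nil) .nil) (.cons [6, 8, 2, 4, 6, 2, 4, 0, 2, 12] .nil (.cons [10, 8, 2, 4, 6, 2, 4, 0, 2, 12] .nil (.cons [8, 4, 6, 4, 6, 2, 4, 0, 2, 12] .nil (.cons [10, 8, 6, 4, 6, 2, 4, 0, 2, 12] .nil (.cons [4, 6, 8, 4, 6, 2, 4, 0, 2, 12] .nil (.cons [10, 6, 8, 4, 6, 2, 4, 0, 2, 12] (.cons [8, 4, 2, 6, 4, 2, 0, 2, 10] (.cons [0, 2, 4, 6, 8, 4, 6, 0, 2, 4, 6, 4] .nil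 .nil) .nil) (.cons [10, 12, 8, 4, 6, 2, 4, 0, 2, 12] .nil (.cons [4, 6, 8, 2, 4, 6, 4, 0, 2, 12] .nil (.cons [2, 4, 6, 8, 4, 6, 4, 0, 2, 12] .nil (.cons [10, 6, 8, 0, 2, 4, 6, 4, 2, 12] (.cons [2, 4, 0, 2, 4, 6, 8, 0, 2, 4, 6, 4, 2, 10] (.cons [0, 2, 0, 2, 4, 6, 4, 6, 8, 2, 4, 6, 4, 0] .nil .nil) .nil) (.cons [6, 4, 6, 8, 2, 4, 6, 4, 2, 12] .nil (.cons [12, 10, 6, 8, 2, 4, 6, 4, 2, 12] (.cons [4, 0, 2, 8, 6, 4, 6, 8, 0, 2, 4, 6, 4, 2, 10] (.cons [6, 8, 4, 6, 0, 2, 4, 0] .nil .nil) .nil) (.cons [0, 2, 12, 10, 2, 4, 6, 4, 2, 12] .nil (.cons [0, 2, 4, 6, 8, 4, 6, 4, 2, 12] .nil (.cons [6, 8, 2, 4, 6, 2, 4, 2, 0, 2, 12] .nil (.cons [10, 6, 8, 4, 6, 2, 4, 2, 0, 2, 12] (.cons [4, 6, 4, 6, 8, 6, 2, 4, 6, 4, 2, 10] (.cons [8, 6, 2, 0, 2, 4, 6, 8, 2, 4, 6, 4, 2, 0] .nil .nil) .nil) (.cons [12, 2, 10, 4, 6, 2, 4, 2, 0,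 2, 12] .nil (.cons [4, 6, 8, 2, 4, 6, 4, 2, 0, 2, 12] .nil (.cons [12, 10, 8, 2, 4, 6, 4, 2, 0, 2, 12] .nil (.cons [8, 2, 0, 2, 4, 6, 2, 4, 0, 2, 12] .nil (.cons [6, 8, 0, 2, 4, 6, 2, 4, 0, 2, 12] .nil (.cons [4, 6, 8, 2, 4, 6, 2, 4, 0, 2, 12] .nil (.cons [4, 6, 8, 6, 4, 6, 2, 4, 0, 2, 12] (.cons [6, 4, 6, 8, 2, 4, 6, 4, 2, 10] (.cons [2, 4, 6, 8, 2, 4, 6, 0, 2, 4, 0] .nil .nil) .nil) (.cons [2, 10, 8, 6, 4, 6, 2, 4, 0, 2, 12] (.cons [6, 8, 4, 2, 6, 4, 2, 0, 2, 10] (.cons [6, 4, 6, 8, 2, 0, 2, 4, 6, 4] .nil .nil) .nil) (.cons [2, 10, 6, 8, 4, 6, 2, 4, 0, 2, 12] .nil (.cons [10, 12, 6, 8, 4, 6, 2, 4, 0, 2, 12] .nil (.cons [4, 2, 10, 12, 8, 6, 2, 4, 0, 2, 12] .nil (.cons [6, 4, 2, 10, 12, 6, 2, 4, 0, 2, 12] .nil (.cons [0, 2, 10, 0, 2, 4, 6, 4, 0, 2, 12] .nil (.cons [2, 4, 6, 8, 2, 4, 6, 4, 0, 2, 12] .nil (.cons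 [4, 2, 12, 10, 2, 4, 6, 4, 0, 2, 12] .nil (.cons [0, 2, 4, 6, 8, 4, 6, 4, 0, 2, 12] .nil (.cons [6, 4, 6, 8, 0, 2, 4, 6, 4, 2, 12] .nil (.cons [2, 10, 6, 8, 0, 2, 4, 6, 4, 2, 12] .nil (.cons [0, 2, 10, 8, 0, 2, 4, 6, 4, 2, 12] (.cons [2, 0, 2, 4, 6, 8, 6, 4, 6, 2, 4, 6, 4, 2, 10] (.cons [0, 2, 4, 6, 8, 2, 0, 2, 4, 6, 4] (.cons [1, 4, 1, 1] .nil .nil) .nil) .nil) (.cons [8, 6, 4, 6, 8, 2, 4, 6, 4, 2, 12] .nil (.cons [12, 6, 4, 6, 8, 2, 4, 6, 4, 2, 12] .nil (.cons [2, 10, 4, 6, 8, 2, 4, 6, 4, 2, 12] (.cons [4, 0, 2, 4, 6, 8, 4, 6, 4, 2, 10] (.cons [6, 2, 0, 2, 4, 6, 8, 2, 4, 6, 4, 0, 2, 0] (.cons [0, 4, 2, 1] (.cons [3, 0] (.leaf 3) .nil) .nil) .nil) .nil) (.cons [2, 12, 4, 6, 8, 2, 4, 6, 4, 2, 12] .nil (.cons [2, 10, 12, 6, 8, 2, 4, 6, 4, 2, 12] .nil (.cons [10, 2, 12, 10, 8, 2, 4, 6, 4, 2, 12] .nil (.cons [10,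 4, 2, 12, 10, 2, 4, 6, 4, 2, 12] .nil (.cons [12, 10, 2, 4, 6, 8, 4, 6, 4, 2, 12] .nil (.cons [10, 12, 2, 4, 6, 8, 4, 6, 4, 2, 12] (.cons [0, 2, 4, 6, 8, 4, 6, 2, 4, 6, 4, 2, 10] (.cons [6, 8, 4, 6, 0, 2, 4, 0] .nil .nil) .nil) (.cons [0, 2, 10, 4, 6, 8, 4, 6, 4, 2, 12] .nil (.cons [4, 6, 8, 2, 4, 6, 2, 4, 2, 0, 2, 12] (.cons [8, 2, 4, 6, 4, 2, 0, 2, 10] (.cons [6, 0, 2, 4, 6, 8, 0, 2, 4, 6, 4, 2, 0] .nil .nil) .nil) (.cons [2, 12, 10, 8, 2, 4, 6, 4, 2, 0, 2, 12] .nil (.cons [10, 8, 2, 0, 2, 4, 6, 2, 4, 0, 2, 12] (.cons [10, 4, 0, 2, 0, 10, 2, 4, 6, 8, 4, 6, 4, 2, 10] (.cons [6, 2, 4, 6, 8, 2, 4, 6, 0, 2, 4, 0] (.cons [0, 0, 0] (.cons [1, 2, 0] (.leaf 3) .nil) .nil) .nil) .nil) (.cons [12, 8, 2, 0, 2, 4, 6, 2, 4, 0, 2, 12] .nil (.cons [2, 12, 8, 0, 2, 4, 6, 2, 4, 0, 2, 12] .nil (.cons [10, 12, 4, 6, 8, 4, 6,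 2, 4, 0, 2, 12] .nil (.cons [2, 10, 12, 6, 8, 4, 6, 2, 4, 0, 2, 12] .nil (.cons [12, 4, 6, 8, 0, 2, 4, 6, 4, 0, 2, 12] .nil (.cons [0, 2, 10, 8, 0, 2, 4, 6, 4, 0, 2, 12] (.cons [0, 2, 4, 6, 8, 4, 6, 2, 4, 6, 4, 2, 10] (.cons [2, 4, 6, 0, 2, 4, 6, 8, 6, 2, 0, 2, 4, 6, 4] .nil .nil) .nil) (.cons [4, 6, 4, 6, 8, 2, 4, 6, 4, 0, 2, 12] .nil (.cons [12, 10, 4, 6, 8, 2, 4, 6, 4, 0, 2, 12] .nil (.cons [2, 10, 12, 6, 8, 2, 4, 6, 4, 0, 2, 12] (.cons [0, 2, 4, 6, 8, 4, 6, 4, 2, 0, 2, 10] (.cons [0, 2, 4, 6, 8, 0, 2, 4, 6, 4] .nil .nil) .nil) (.cons [10, 12, 2, 4, 6, 8, 4, 6, 4, 0, 2, 12] .nil (.cons [10, 6, 4, 6, 8, 0, 2, 4, 6, 4, 2, 12] .nil (.cons [12, 4, 2, 10, 4, 6, 8, 4, 6, 4, 2, 12] (.cons [6, 8, 2, 4, 2, 6, 4, 2, 0, 2, 10] (.cons [4, 6, 8, 6, 0, 2, 4, 6, 4] (.cons [1, 4, 2, 0] .nil .nil) .nil) .nil) (.cons [2, 12,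 8, 2, 0, 2, 4, 6, 2, 4, 0, 2, 12] .nil (.cons [10, 4, 6, 8, 0, 2, 4, 6, 2, 4, 0, 2, 12] .nil (.cons [2, 12, 4, 6, 8, 2, 4, 6, 2, 4, 0, 2, 12] .nil (.cons [6, 4, 2, 10, 8, 6, 4, 6, 2, 4, 0, 2, 12] .nil (.cons [10, 0, 2, 4, 6, 8, 4, 6, 2, 4, 0, 2, 12] .nil (.cons [8, 6, 4, 6, 8, 0, 2, 4, 6, 4, 0, 2, 12] .nil (.cons [12, 0, 2, 4, 6, 8, 0, 2, 4, 6, 4, 2, 12] .nil (.cons [10, 4, 2, 0, 2, 4, 6, 8, 4, 6, 4, 2, 12] .nil (.cons [2, 4, 6, 4, 6, 8, 2, 4, 6, 4, 2, 0, 2, 12] .nil (.cons [4, 0, 2, 10, 6, 8, 2, 4, 6, 2, 4, 0, 2, 12] .nil (.cons [4, 6, 4, 2, 10, 8, 0, 2, 4, 6, 4, 0, 2, 12] .nil (.cons [10, 6, 0, 2, 4, 6, 8, 2, 4, 6, 4, 0, 2, 12] .nil .nil)))))))))))))))))))))))))))))))))))))))))))))))))))))))))))))))))))))))))))))))))))))))))))))))))))))))))))))))))))))))))))))))))))))))))))))))))))))))))))))))))) (⟨cx_l0.b,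 cx_l0.S, [], cx_R0, 0⟩ :: cx_tl) (0 :: cx_lk) Pd.nil 0 = true := by decide +kernel
theorem cx_sound {G : Type*} [Group G] {φ : G →* Equiv.Perm ℕ} {γ : ℕ → G}
    (M : Model φ γ 11 l0_ns m_ts) : ChainSound φ (gp γ [0, 2, 4, 6, 8, 10, 12]) 11 [] cx_ls :=
  ⟨Level.ok_sound' M cx_l0_ok,
   Level.ok_sound' M cx_l1_ok,
   Level.ok_sound' M cx_l2_ok,
   Level.okT_sound M cx_l3_ok,
   Level.okT_sound M cx_l4_ok, trivial⟩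
theorem cx_cent {G : Type*} [Group G] {φ : G →* Equiv.Perm ℕ} {γ : ℕ → G}
    (C : Cert φ γ 11 l0_ns m_ts [0, 2, 4, 6, 8, 10, 12] c_ls) : Cent γ cx_S.u cx_S.Cl 10 :=
  have X := (C.rechain (cx_sound C.M) (by decide +kernel)).exact
  have A := Srch.auxB_sound (S := cx_S) C.M (K := ⊤) le_top rfl cx_aux
  have F := fun {tr : Tr} {R : ℕ} => Srch.found_of_run (S := cx_S) C.M C.base (by decide +kernel) X A (tr := tr) (R := R)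
  Cent.of_found (S := cx_S) C.M X rfl (F cx_r0) cx_cov

end Cfsg.Agent.SuzC
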